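import Mathlib

set_option autoImplicit false

/-!
# FastTC: rank-based implicit certificates for coset enumeration (involutive generators)

Points `0 .. M-1`; the first `n` are the *true* cosets, the others auxiliary pre-cosets (aliases).
Every point `p > 0` has a parent `F (pl p) p < p`, which fixes a representative word `rep p`.
A slot `(y, p)` (generator `y`, point `p`) carries a packed record `slot y p`
(target `rF`, rank `rR`, code `rC`); code `0` = undefined.  A defined slot states the *fact*
`H · rep p · γ y = H · rep (rF …)`.  An auxiliary point `a` may carry an alias record `ali a`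
stating `H · rep a = H · rep (eA …)`.  Every fact is justified by its code using only facts of
strictly smaller rank, so all facts are valid by induction on the rank.  All functions below are
written with bare recursors so that the kernel evaluates them quickly.
-/

namespace Cfsg.Agent.Helper91.FTC

/-- `sel c t e = if c then t else e`, as a bare recursor. -/
@[reducible] def sel {α : Type} (c : Bool) (t e : α) : α := Bool.rec e t c

/-- force `a` to a numeral before calling `k` (avoids re-evaluation of shared subterms in the kernel) -/
@[reducible] def frc {α : Type} (a : ℕ) (k : ℕ → α) : α := Nat.rec (k 0) (fun m _ => k (Nat.succ m)) a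

theorem frc_eq {α : Type} (a : ℕ) (k : ℕ → α) : frc a k = k a := by cases a <;> rfl

/-- the failure value of walks (no point has this number: `M ≤ BAD` is required) -/
def BAD : ℕ := 1048575
/-- a rank bound larger than every rank -/
def BIG : ℕ := 4194304

/-- target of a packed slot record (bits 0..19) -/
def rF (e : ℕ) : ℕ := Nat.land e 1048575
/-- rank of a packed slot record (bits 20..41) -/
def rR (e : ℕ) : ℕ := Nat.land (Nat.shiftRight e 20) 4194303
/-- code of a packed slot record (bits 42..) -/
def rC (e : ℕ) : ℕ := Nat.shiftRight e 42

/-- alias target of a packed alias record (bits 0..19) -/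
def eA (E : ℕ) : ℕ := Nat.land E 1048575
/-- rank of a packed alias record (bits 20..41) -/
def eR (E : ℕ) : ℕ := Nat.land (Nat.shiftRight E 20) 4194303
/-- first letter of the relator of an alias record (bits 42..45) -/
def eX (E : ℕ) : ℕ := Nat.land (Nat.shiftRight E 42) 15
/-- rotation number of the relator of an alias record (bits 46..51) -/
def eK (E : ℕ) : ℕ := Nat.land (Nat.shiftRight E 46) 63
/-- presence flag of an alias record (bit 52) -/
def eHas (E : ℕ) : Bool := Nat.blt 4503599627370495 E

/-- The lookup functions of a certificate (the packing of the tables is irrelevant for soundness). -/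
structure Tabs where
  /-- number of true cosets -/
  n : ℕ
  /-- number of points -/
  M : ℕ
  /-- number of generators -/
  g : ℕ
  /-- packed slot record of generator `y` at point `p` -/
  slot : ℕ → ℕ → ℕ
  /-- packed alias record of a point -/
  ali : ℕ → ℕ
  /-- parent letter of a point -/
  plf : ℕ → ℕ
  /-- payload (auxiliary point) of a transfer slot -/
  pay : ℕ → ℕ → ℕ
  /-- number of rotated relators beginning with the generator `y` -/
  nrot : ℕ → ℕ
  /-- the `k`-th rotated relator beginning with `y`, WITHOUT its first letter `y` -/
  rot : ℕ → ℕ → List ℕ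
  /-- is the generator `y` one of the subgroup generators? -/
  isY : ℕ → Bool

/-- follow alias records of rank `< r`, at most `f` times -/
def nrm (T : Tabs) (r : ℕ) : ℕ → ℕ → ℕ :=
  Nat.rec (motive := fun _ => ℕ → ℕ) (fun q => q)
    (fun _ ih q =>
      sel (Nat.blt q T.n) q
        (frc (T.ali q) fun E =>
          sel (eHas E) (sel (Nat.blt (eR E) r) (frc (eA E) ih) q) q))

/-- walk along the word `w` from the point `p`, using only facts of rank `< r`; `BAD` on failure -/
def walk (T : Tabs) (r : ℕ) : List ℕ → ℕ → ℕ :=
  List.rec (motive := fun _ => ℕ → ℕ) (fun p => p)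
    (fun y _ ih p =>
      frc (T.slot y p) fun e =>
        sel (Nat.blt 0 (rC e))
          (sel (Nat.blt (rR e) r) (frc (nrm T r 3 (rF e)) ih) BAD)
          BAD)

/-- the check of the slot `(y, p)` -/
def chkF (T : Tabs) (y p : ℕ) : Bool :=
  frc (T.slot y p) fun e =>
  frc (rC e) fun c =>
  frc (rF e) fun q =>
  frc (rR e) fun r =>
  sel (Nat.beq c 0) (Nat.ble T.n p)
  (sel (Nat.blt q T.M)
    (sel (Nat.blt 5 c)
      -- relator: walk the rest of the rotated relator from the target back to `p`
      (frc (Nat.sub c 6) fun k =>
        sel (Nat.blt k (T.nrot y)) (Nat.beq (walk T r (T.rot y k) q) p) false)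
    (sel (Nat.beq c 4)
      -- mirror of the slot `(y, q)`
      (frc (T.slot y q) fun e' =>
        sel (Nat.blt 0 (rC e')) (sel (Nat.beq (rF e') p) (Nat.blt (rR e') r) false) false)
    (sel (Nat.beq c 1)
      -- tree edge to the parent
      (sel (Nat.beq y (T.plf p)) (Nat.blt q p) false)
    (sel (Nat.beq c 2)
      -- tree edge to a child
      (sel (Nat.beq (T.plf q) y) (sel (Nat.beq (rF (T.slot y q)) p) (Nat.blt p q) false) false)
    (sel (Nat.beq c 3)
      -- subgroup generator at the base point
      (sel (Nat.beq p 0) (sel (Nat.beq q 0) (T.isY y) false) false)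
      -- (code 5) transfer from the alias `a` of `p`
      (frc (T.pay y p) fun a => frc (T.ali a) fun E => frc (T.slot y a) fun e'' =>
        sel (Nat.ble T.n a) (sel (Nat.blt a T.M) (sel (eHas E) (sel (Nat.beq (eA E) p)
          (sel (Nat.blt (eR E) r)
            (sel (Nat.blt 0 (rC e'')) (sel (Nat.beq (rF e'') q) (Nat.blt (rR e'') r) false) false)
          false) false) false) false) false))))))
    false)

/-- the check of the alias record of the point `a` -/
def chkE (T : Tabs) (a : ℕ) : Bool :=
  frc (T.ali a) fun E =>
  sel (eHas E)
    (frc (eA E) fun t => frc (eR E) fun r => frc (eX E) fun x => frc (eK E) fun k =>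
      sel (Nat.blt t T.M) (sel (Nat.blt x T.g) (sel (Nat.blt k (T.nrot x))
        (Nat.beq (walk T r (x :: T.rot x k) a) t) false) false) false)
    true

/-- the final (fully normalised) image of the true coset `p` under the generator `y` -/
def fin (T : Tabs) (y p : ℕ) : ℕ := nrm T BIG 3 (rF (T.slot y p))

/-- `f (lo + i) = true` for all `i < len` -/
def allRange (f : ℕ → Bool) (lo : ℕ) : ℕ → Bool :=
  Nat.rec (motive := fun _ => Bool) true (fun i ih => sel (frc (Nat.add lo i) f) ih false)

theorem allRange_sound (f : ℕ → Bool) (lo len : ℕ) (h : allRange f lo len = true) :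
    ∀ p, lo ≤ p → p < lo + len → f p = true := by
  induction len with
  | zero => intro p h1 h2; omega
  | succ k ih =>
    intro p h1 h2
    have h' : sel (frc (Nat.add lo k) f) (allRange f lo k) false = true := h
    rw [frc_eq] at h'
    cases hk : f (Nat.add lo k)
    · rw [hk] at h'; exact absurd h' (by simp [sel])
    · rw [hk] at h'
      by_cases hp : p = lo + k
      · rw [hp]; exact hk
      · exact ih h' p h1 (by omega)

end Cfsg.Agent.Helper91.FTC
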