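import Cfsg.Agent.Helper91.FTC.Defs

set_option autoImplicit false

/-!
# FastTC: group-theoretic meaning of a certificate (definitions only)
-/

namespace Cfsg.Agent.Helper91.FTC

variable {Γ : Type*} [Group Γ]

/-- value of a word of generator numbers -/
def evalW (γ : ℕ → Γ) : List ℕ → Γ
  | [] => 1
  | y :: w => γ y * evalW γ w

/-- parent of a point -/
def par (T : Tabs) (p : ℕ) : ℕ := rF (T.slot (T.plf p) p)

/-- the representative of a point: `rep p = rep (par p) * γ (plf p)` if `par p < p`, else `1` -/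
noncomputable def rep (T : Tabs) (γ : ℕ → Γ) (p : ℕ) : Γ :=
  if h : par T p < p then rep T γ (par T p) * γ (T.plf p) else 1
termination_by p
decreasing_by exact h

theorem rep_eq (T : Tabs) (γ : ℕ → Γ) (p : ℕ) :
    rep T γ p = if par T p < p then rep T γ (par T p) * γ (T.plf p) else 1 := by
  rw [rep]; split <;> rfl

theorem rep_of_par_lt (T : Tabs) (γ : ℕ → Γ) (p : ℕ) (h : par T p < p) :
    rep T γ p = rep T γ (par T p) * γ (T.plf p) := by
  rw [rep_eq, if_pos h]

theorem rep_zero (T : Tabs) (γ : ℕ → Γ) : rep T γ 0 = 1 := by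
  rw [rep_eq, if_neg (Nat.not_lt_zero _)]

/-- the slot `(y, p)` is valid: `H · rep p · γ y = H · rep (target)` -/
def VF (T : Tabs) (γ : ℕ → Γ) (H : Subgroup Γ) (y p : ℕ) : Prop :=
  rep T γ p * γ y * (rep T γ (rF (T.slot y p)))⁻¹ ∈ H

/-- the alias record of `a` is valid: `H · rep a = H · rep (alias)` -/
def VE (T : Tabs) (γ : ℕ → Γ) (H : Subgroup Γ) (a : ℕ) : Prop :=
  rep T γ a * (rep T γ (eA (T.ali a)))⁻¹ ∈ H

/-- all facts of rank `< r` are valid -/
def IH (T : Tabs) (γ : ℕ → Γ) (H : Subgroup Γ) (r : ℕ) : Prop :=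
  (∀ y, y < T.g → ∀ p, p < T.M → rC (T.slot y p) ≠ 0 → rR (T.slot y p) < r → VF T γ H y p) ∧
  (∀ a, T.n ≤ a → a < T.M → eHas (T.ali a) = true → eR (T.ali a) < r → VE T γ H a)

/-- the hypotheses of the soundness theorem -/
structure Hyp (T : Tabs) (γ : ℕ → Γ) (H : Subgroup Γ) : Prop where
  hM : T.M ≤ BAD
  hnM : T.n ≤ T.M
  hinv : ∀ y, y < T.g → γ y * γ y = 1
  hY : ∀ y, y < T.g → T.isY y = true → γ y ∈ H
  hrot : ∀ y, y < T.g → ∀ k, k < T.nrot y →
    evalW γ (y :: T.rot y k) = 1 ∧ ∀ z ∈ T.rot y k, z < T.g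
  hF : ∀ y, y < T.g → ∀ p, p < T.M → chkF T y p = true
  hE : ∀ a, T.n ≤ a → a < T.M → chkE T a = true

/-- the rotation by `i` of the `b`-th base word (`rv = false`) or of its reverse (`rv = true`) -/
def rotOf (base : List (List ℕ)) (b i : ℕ) (rv : Bool) : List ℕ :=
  (sel rv (base.getD b []).reverse (base.getD b [])).rotate i

/-! ## permutation side -/

/-- a coset table of `n` points and `g` generators, `t y p` = image of `p` under generator `y` -/
structure PTab where
  n : ℕ
  g : ℕ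
  t : ℕ → ℕ → ℕ

/-- `t y` maps `p` into range and is an involution at `p` -/
def chkInv (P : PTab) (y p : ℕ) : Bool :=
  frc (P.t y p) fun q => sel (Nat.blt q P.n) (Nat.beq (P.t y q) p) false

/-- generators `x`, `y` commute at `p` (only tested if `p` is the least point of `{p, p·x, p·y}`) -/
def chkComm (P : PTab) (x y p : ℕ) : Bool :=
  frc (P.t x p) fun a => frc (P.t y p) fun b =>
    sel (Nat.ble p a) (sel (Nat.ble p b) (Nat.beq (P.t y a) (P.t x b)) true) true

/-- braid relation `xyx = yxy` at `p` (only tested if `p` is the least point of `{p, p·x, p·y}`) -/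
def chkBraid (P : PTab) (x y p : ℕ) : Bool :=
  frc (P.t x p) fun a => frc (P.t y p) fun b =>
    sel (Nat.ble p a) (sel (Nat.ble p b) (Nat.beq (P.t x (P.t y a)) (P.t y (P.t x b))) true) true

/-- trace a word from a point: the FIRST letter is applied FIRST -/
def trace (P : PTab) : List ℕ → ℕ → ℕ :=
  List.rec (motive := fun _ => ℕ → ℕ) (fun p => p) (fun y _ ih p => frc (P.t y p) ih)

/-- iterate a function `k` times -/
def iter (f : ℕ → ℕ) : ℕ → ℕ → ℕ :=
  Nat.rec (motive := fun _ => ℕ → ℕ) (fun p => p) (fun _ ih p => frc (f p) ih)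

/-- the parent letter `pl p` leads to a smaller point -/
def chkPar (P : PTab) (pl : ℕ → ℕ) (p : ℕ) : Bool :=
  frc (pl p) fun y => sel (Nat.blt y P.g) (Nat.blt (P.t y p) p) false

end Cfsg.Agent.Helper91.FTC
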