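import Cfsg.Agent.Helper91.FTC.Spec

set_option autoImplicit false

/-!
# FastTC: function-based variants of the permutation checks

The checks of `Spec` go through `P.t y p` (a dispatch on the generator `y` at every lookup); the
variants below take the lookup functions `t y` themselves, which is faster in the kernel.
-/

namespace Cfsg.Agent.Helper91.FTC

/-- `t` maps `p` into `[0, n)` and is an involution at `p` -/
def chkInvF (n : ℕ) (t : ℕ → ℕ) (p : ℕ) : Bool :=
  frc (t p) fun q => sel (Nat.blt q n) (Nat.beq (t q) p) false

theorem chkInv_eq (P : PTab) (y p : ℕ) : chkInv P y p = chkInvF P.n (P.t y) p := rfl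

/-- `tx`, `ty` commute at `p` (only tested if `p` is the least point of `{p, p·x, p·y}`) -/
def chkCommF (tx ty : ℕ → ℕ) (p : ℕ) : Bool :=
  frc (tx p) fun a => frc (ty p) fun b =>
    sel (Nat.ble p a) (sel (Nat.ble p b) (Nat.beq (ty a) (tx b)) true) true

theorem chkComm_eq (P : PTab) (x y p : ℕ) :
    chkComm P x y p = chkCommF (P.t x) (P.t y) p := rfl

/-- braid relation of `tx`, `ty` at `p` (only tested if `p` is the least point of `{p, p·x, p·y}`) -/
def chkBraidF (tx ty : ℕ → ℕ) (p : ℕ) : Bool :=
  frc (tx p) fun a => frc (ty p) fun b =>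
    sel (Nat.ble p a) (sel (Nat.ble p b) (Nat.beq (tx (ty a)) (ty (tx b))) true) true

theorem chkBraid_eq (P : PTab) (x y p : ℕ) :
    chkBraid P x y p = chkBraidF (P.t x) (P.t y) p := rfl

/-- all commutation tests (partners `cs`) and braid tests (partners `bs`) of `tx` at `p` -/
def chkPairsF (tx : ℕ → ℕ) (cs bs : List (ℕ → ℕ)) (p : ℕ) : Bool :=
  frc (tx p) fun a =>
    sel (Nat.ble p a)
      (sel (List.rec (motive := fun _ => Bool) true
            (fun ty _ ih => frc (ty p) fun b =>
              sel (sel (Nat.ble p b) (Nat.beq (ty a) (tx b)) true) ih false) cs)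
          (List.rec (motive := fun _ => Bool) true
            (fun ty _ ih => frc (ty p) fun b =>
              sel (sel (Nat.ble p b) (Nat.beq (tx (ty a)) (ty (tx b))) true) ih false) bs)
          false)
      true

/-- trace a list of lookup functions from a point: the FIRST function is applied FIRST -/
def traceF : List (ℕ → ℕ) → ℕ → ℕ :=
  List.rec (motive := fun _ => ℕ → ℕ) (fun p => p) (fun f _ ih p => frc (f p) ih)

end Cfsg.Agent.Helper91.FTC
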