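import Cfsg.Agent.Helper91.FTC.Spec
import Cfsg.Agent.Helper65.FTC_CASES
import Cfsg.Agent.Helper65.FTC_ECASES
import Cfsg.Agent.Helper65.FTC_TRUE
import Cfsg.Agent.Helper65.FTC_NRM
import Cfsg.Agent.Helper65.FTC_WALK
import Cfsg.Agent.Helper65.FTC_VRL
import Cfsg.Agent.Helper65.FTC_ALL
import Cfsg.Agent.Helper53.FTC_VUP
import Cfsg.Agent.Helper53.FTC_VDN
import Cfsg.Agent.Helper53.FTC_VAX
import Cfsg.Agent.Helper53.FTC_VMI
import Cfsg.Agent.Helper63.FTC_VXF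
import Cfsg.Agent.Helper63.FTC_RK

set_option autoImplicit false

/-!
# FastTC: soundness of a checked certificate (upper bound side)

Assembly of the farmed pieces (WANTED #14798; helper53, helper63, helper65): if all slot checks and
alias checks succeed, every recorded fact is valid, hence the final table of the true cosets is valid.
-/

namespace Cfsg.Agent.Helper91.FTC
open Cfsg.Agent.Helper53.FTC Cfsg.Agent.Helper63.FTC Cfsg.Agent.Helper65.FTC
variable {Γ : Type*} [Group Γ]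

theorem chkF_target_lt (T : Tabs) (γ : ℕ → Γ) (H : Subgroup Γ) (hy : Hyp T γ H) :
    ∀ y p, y < T.g → p < T.M → rC (T.slot y p) ≠ 0 → rF (T.slot y p) < T.M :=
  fun y p h1 h2 h3 => (chkF_cases T y p (hy.hF y h1 p h2) h3).1

theorem chkF_valid (T : Tabs) (γ : ℕ → Γ) (H : Subgroup Γ) (hy : Hyp T γ H) (y p : ℕ)
    (hy' : y < T.g) (hp : p < T.M) (hc : rC (T.slot y p) ≠ 0)
    (hih : IH T γ H (rR (T.slot y p))) : VF T γ H y p := by
  obtain ⟨hq, hcases⟩ := chkF_cases T y p (hy.hF y hy' p hp) hc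
  have hnrm := nrm_sound T γ H _ hih hy.hE
  have hwalk := walk_sound T γ H _ hy.hM hih hnrm (chkF_target_lt T γ H hy)
  rcases hcases with ⟨_, h1, h2⟩ | ⟨_, h1, h2, h3⟩ | ⟨_, h1, h2, h3⟩ | ⟨_, h1, h2, h3⟩ |
    ⟨_, a, ha1, ha2, ha3, ha4, ha5, ha6, ha7, ha8⟩ | ⟨_, hk, hw⟩
  · exact VF_up T γ H y p (hy.hinv y hy') h1 h2
  · exact VF_down T γ H y p h1 h2 h3
  · exact VF_axiom T γ H y p h1 h2 (hy.hY y hy' h3)
  · exact VF_mirror T γ H y p (hy.hinv y hy') (hih.1 y hy' _ hq h1 h3) h2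
  · exact VF_transfer T γ H y p a (hih.2 a ha1 ha2 ha3 ha5) ha4 (hih.1 y hy' a ha2 ha6 ha8) ha7
  · obtain ⟨hrel, hlt⟩ := hy.hrot y hy' _ hk
    exact VF_relator T γ H y p _ (hy.hinv y hy') hrel (hwalk _ hlt _ hq p hp hw)

theorem chkE_valid (T : Tabs) (γ : ℕ → Γ) (H : Subgroup Γ) (hy : Hyp T γ H) (a : ℕ)
    (ha : T.n ≤ a) (ha' : a < T.M) (hE : eHas (T.ali a) = true)
    (hih : IH T γ H (eR (T.ali a))) : VE T γ H a := by
  obtain ⟨h1, h2, h3, h4⟩ := chkE_cases T a (hy.hE a ha ha') hE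
  have hnrm := nrm_sound T γ H _ hih hy.hE
  have hwalk := walk_sound T γ H _ hy.hM hih hnrm (chkF_target_lt T γ H hy)
  obtain ⟨hrel, hlt⟩ := hy.hrot _ h2 _ h3
  have := hwalk (eX (T.ali a) :: T.rot (eX (T.ali a)) (eK (T.ali a)))
    (by intro z hz; rcases List.mem_cons.mp hz with rfl | hz; exact h2; exact hlt z hz)
    a ha' _ h1 h4
  rw [hrel, mul_one] at this
  exact this

theorem valid (T : Tabs) (γ : ℕ → Γ) (H : Subgroup Γ) (hy : Hyp T γ H) : ∀ r, IH T γ H r :=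
  valid_all T γ H (fun y p h1 h2 h3 h4 => chkF_valid T γ H hy y p h1 h2 h3 h4)
    (fun a h1 h2 h3 h4 => chkE_valid T γ H hy a h1 h2 h3 h4)

/-- the final table of the true cosets is valid -/
theorem fin_valid (T : Tabs) (γ : ℕ → Γ) (H : Subgroup Γ) (hy : Hyp T γ H) (y p : ℕ)
    (hy' : y < T.g) (hp : p < T.n) :
    fin T y p < T.M ∧ rep T γ p * γ y * (rep T γ (fin T y p))⁻¹ ∈ H := by
  have hpM : p < T.M := lt_of_lt_of_le hp hy.hnM
  have hc := chkF_true_defined T y p (hy.hF y hy' p hpM) hp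
  have hall := valid T γ H hy BIG
  have hv : VF T γ H y p := hall.1 y hy' p hpM hc (rR_lt_BIG _)
  have hq := chkF_target_lt T γ H hy y p hy' hpM hc
  obtain ⟨h1, h2⟩ := nrm_sound T γ H BIG hall hy.hE 3 _ hq
  refine ⟨h1, ?_⟩
  have : rep T γ p * γ y * (rep T γ (fin T y p))⁻¹ =
      (rep T γ p * γ y * (rep T γ (rF (T.slot y p)))⁻¹) *
        (rep T γ (rF (T.slot y p)) * (rep T γ (fin T y p))⁻¹) := by group
  rw [this]
  exact H.mul_mem hv h2

end Cfsg.Agent.Helper91.FTC
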